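import Cfsg.Agent.Lib.PrimeDegreeBlocks.Main

/-!
# Two-point stabilisers: lines of three points have no larger closed sets

The classes of equal two-point stabilisers would form a Steiner triple system with cube roots of
`-1`; a closed set of such a system has at most three points, so two-point stabilisers are
semiregular off their line, and Sylow's congruence leaves only `p = 7`.
-/

set_option autoImplicit false
set_option linter.style.haveILetI false

namespace Cfsg.Agent.PrimeDegreeBlocks

open Polynomial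
open scoped Classical

variable {p : ℕ} [hp : Fact p.Prime] {G : Subgroup (Equiv.Perm (ZMod p))}

/-- Having the same stabiliser inside the stabiliser of `0`. -/
def fixRel (G : Subgroup (Equiv.Perm (ZMod p))) (x y : ZMod p) : Prop :=
  ∀ σ ∈ G, σ 0 = 0 → (σ x = x ↔ σ y = y)

theorem rel_fixRel : Rel G (fixRel G) where
  refl _ _ := fun _ _ _ => Iff.rfl
  symm _ _ _ _ h := fun σ hσ h0 => (h σ hσ h0).symm
  trans _ _ _ _ _ _ h h' := fun σ hσ h0 => (h σ hσ h0).trans (h' σ hσ h0)
  inv τ hτ hτ0 x y _ _ h := fun σ hσ h0 => by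
    have h1 := h (τ⁻¹ * σ * τ) (G.mul_mem (G.mul_mem (G.inv_mem hτ) hσ) hτ)
      (by simp [Equiv.Perm.mul_apply, hτ0, h0, show τ.symm 0 = 0 from τ.symm_apply_eq.2 hτ0.symm])
    simp only [Equiv.Perm.mul_apply, Equiv.Perm.inv_eq_iff_eq] at h1
    exact ⟨fun hh => (h1.1 hh), fun hh => (h1.2 hh)⟩

/-- Inclusion of two-point stabilisers is equality. -/
theorem fixRel_of_le (hG : Conf G) {y : ZMod p} (hy : y ≠ 0)
    (h : ∀ σ ∈ G, σ 0 = 0 → σ 1 = 1 → σ y = y) : fixRel G 1 y := by
  intro σ hσ h0
  refine ⟨h σ hσ h0, fun hσy => ?_⟩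
  obtain ⟨τ, hτ, hτ0, hτ1⟩ := hG.two y hy
  let S : ZMod p → Finset (Equiv.Perm (ZMod p)) := fun x =>
    Finset.univ.filter fun σ => σ ∈ G ∧ σ 0 = 0 ∧ σ x = x
  have hcard : (S 1).card = (S y).card := by
    refine Finset.card_bij' (fun σ _ => τ * σ * τ⁻¹) (fun σ _ => τ⁻¹ * σ * τ) ?_ ?_
      (fun σ _ => by group) (fun σ _ => by group)
    · intro ρ hρ
      simp only [S, Finset.mem_filter, Finset.mem_univ, true_and] at hρ ⊢
      refine ⟨G.mul_mem (G.mul_mem hτ hρ.1) (G.inv_mem hτ), ?_, ?_⟩
      · simp only [Equiv.Perm.mul_apply, Equiv.Perm.inv_eq_iff_eq.2 hτ0.symm, hρ.2.1, hτ0]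
      · simp only [Equiv.Perm.mul_apply, Equiv.Perm.inv_eq_iff_eq.2 hτ1.symm, hρ.2.2, hτ1]
    · intro ρ hρ
      simp only [S, Finset.mem_filter, Finset.mem_univ, true_and] at hρ ⊢
      refine ⟨G.mul_mem (G.mul_mem (G.inv_mem hτ) hρ.1) hτ, ?_, ?_⟩
      · simp only [Equiv.Perm.mul_apply, Equiv.Perm.inv_eq_iff_eq, hρ.2.1, hτ0]
      · simp only [Equiv.Perm.mul_apply, Equiv.Perm.inv_eq_iff_eq, hρ.2.2, hτ1]
  have hsub : S 1 ⊆ S y := fun ρ hρ => by
    simp only [S, Finset.mem_filter, Finset.mem_univ, true_and] at hρ ⊢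
    exact ⟨hρ.1, hρ.2.1, h ρ hρ.1 hρ.2.1 hρ.2.2⟩
  have heq := Finset.eq_of_subset_of_card_le hsub hcard.ge
  have hmem : σ ∈ S y := by simp [S, hσ, h0, hσy]
  rw [← heq] at hmem
  simp only [S, Finset.mem_filter] at hmem
  exact hmem.2.2.2

/-- The fixed points of a permutation are closed under joining lines. -/
theorem diff_fix {σ : Equiv.Perm (ZMod p)} (hσ : σ ∈ G) (hG : Conf G) {a b y : ZMod p}
    (ha : σ a = a) (hb : σ b = b) (hy : y ∈ cls (fixRel G) (b - a)) : σ (a + y) = a + y := by
  have h := (mem_cls.1 hy).2 (diff σ a) (hG.diff_mem hσ a) (diff_zero σ a)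
  rw [diff_apply, diff_apply, ha, add_sub_cancel, hb] at h
  have h1 := h.1 rfl
  linear_combination h1

theorem card_group (hG : Conf G) :
    Nat.card G = p * (p - 1) *
      Nat.card {σ : G // (σ : Equiv.Perm (ZMod p)) 0 = 0 ∧ (σ : Equiv.Perm (ZMod p)) 1 = 1} := by
  haveI : MulAction.IsPretransitive G (ZMod p) := ⟨fun a b => ⟨⟨_, hG.trans (b - a)⟩, by
    simp [Subgroup.smul_def]⟩⟩
  have h1 := (MulAction.stabilizer G (0 : ZMod p)).index_mul_card
  rw [MulAction.index_stabilizer_of_transitive, Nat.card_zmod] at h1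
  have h2 := (MulAction.stabilizer (MulAction.stabilizer G (0 : ZMod p)) (1 : ZMod p)).index_mul_card
  have horb : MulAction.orbit (MulAction.stabilizer G (0 : ZMod p)) (1 : ZMod p) = {0}ᶜ := by
    ext z
    simp only [MulAction.mem_orbit_iff, Set.mem_compl_iff, Set.mem_singleton_iff]
    constructor
    · rintro ⟨⟨g, hg⟩, rfl⟩ h0
      have hg0 : (g : Equiv.Perm (ZMod p)) 0 = 0 := hg
      exact one_ne_zero ((g : Equiv.Perm (ZMod p)).injective (h0.trans hg0.symm))
    · intro hz
      obtain ⟨σ, hσ, h0, h1⟩ := hG.two z hz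
      exact ⟨⟨⟨σ, hσ⟩, h0⟩, h1⟩
  rw [MulAction.index_stabilizer, horb, Set.ncard_compl, Set.ncard_singleton, Nat.card_zmod] at h2
  rw [← h1, ← h2, ← mul_assoc]
  congr 1
  exact Nat.card_congr ⟨fun g => ⟨g.1.1, g.1.2, g.2⟩, fun g => ⟨⟨g.1, g.2.1⟩, g.2.2⟩,
    fun _ => rfl, fun _ => rfl⟩

/-- A point stabiliser has no non-trivial invariant equivalence. -/
theorem false_of_rel (hG : Conf G)
    (hcount : ∀ g, Nat.card G = p * (p - 1) * g → 2 * g % p = 1)
    {R : ZMod p → ZMod p → Prop} (hR : Rel G R) (h2 : 2 ≤ (cls R 1).card)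
    (hlt : (cls R 1).card < p - 1) : False := by
  have h7 := hG.seven_lt
  have hhalf := hG.half
  have hs0 : ∀ s ∈ sq p, s ≠ 0 := fun s hs h => by
    have := mem_sq.1 hs
    rw [h, zero_pow (by omega)] at this
    exact zero_ne_one this
  have h1sq : (1 : ZMod p) ∈ sq p := mem_sq.2 (one_pow _)
  set g := Nat.card {σ : G // (σ : Equiv.Perm (ZMod p)) 0 = 0 ∧ (σ : Equiv.Perm (ZMod p)) 1 = 1}
    with hgdef
  have hg := hcount g (card_group hG)
  obtain ⟨v, -, -, hc2, hv⟩ := hR.classify hG h2 hlt
  have hF2 : 2 ≤ (cls (fixRel G) 1).card := by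
    rw [← hc2]
    refine Finset.card_le_card fun y hy => mem_cls.2 ⟨(mem_cls.1 hy).1, ?_⟩
    refine fixRel_of_le hG (mem_cls.1 hy).1 fun σ hσ h0 h1 => ?_
    have h3 : σ y ∈ cls R 1 := by
      rw [← h1, ← hR.image_cls hG hσ h0 one_ne_zero]
      exact Finset.mem_image_of_mem _ hy
    rw [hv 1 h1sq, one_mul] at hy h3
    simp only [Finset.mem_insert, Finset.mem_singleton] at hy h3
    rcases hy with rfl | rfl
    · exact h1
    · rcases h3 with h3 | h3
      · exact (σ.injective (h3.trans h1.symm)).symm ▸ h1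
      · exact h3
  by_cases htot : (cls (fixRel G) 1).card < p - 1
  swap
  · -- the two-point stabilisers are trivial
    have hall : cls (fixRel G) 1 = Finset.univ.erase 0 := by
      refine Finset.eq_of_subset_of_card_le (fun y hy => ?_) ?_
      · simp [(mem_cls.1 hy).1]
      · rw [Finset.card_erase_of_mem (Finset.mem_univ _), Finset.card_univ, ZMod.card]
        omega
    have hg1 : g = 1 := by
      rw [hgdef, Nat.card_eq_one_iff_unique]
      refine ⟨⟨fun a b => ?_⟩, ⟨⟨1, rfl, rfl⟩⟩⟩
      have htriv : ∀ σ : {σ : G // (σ : Equiv.Perm (ZMod p)) 0 = 0 ∧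
          (σ : Equiv.Perm (ZMod p)) 1 = 1}, ((σ : G) : Equiv.Perm (ZMod p)) = 1 := fun σ => by
        refine Equiv.ext fun x => ?_
        rcases eq_or_ne x 0 with rfl | hx
        · exact σ.2.1
        · have hxm : x ∈ cls (fixRel G) 1 := by rw [hall]; simp [hx]
          exact ((mem_cls.1 hxm).2 _ σ.1.2 σ.2.1).1 σ.2.2
      exact Subtype.ext (Subtype.ext ((htriv a).trans (htriv b).symm))
    rw [hg1, Nat.mul_one, Nat.mod_eq_of_lt (by omega)] at hg
    omega
  obtain ⟨u, hu, hu1, hF, hcls⟩ := rel_fixRel.classify hG hF2 htot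
  have hu0 : u ≠ 0 := fun h => by
    rw [h, zero_pow (by omega)] at hu
    simp at hu
  have hune1 : u ≠ 1 := fun h => by
    rw [h, one_pow] at hu
    exact hG.one_ne_neg_one hu
  have hclsN : ∀ z, z ≠ 0 → z ∉ sq p → cls (fixRel G) z = {z / u, z} := by
    intro z hz hzs
    have he := hG.eq_div_mul_sq hz hzs hu
    rw [rel_fixRel.cls_eq (hs0 _ he) (z := z / u) (y := z) (by rw [hcls _ he]; simp [hu0]),
      hcls _ he]
    simp [hu0]
  -- cube root
  have hquad : u ^ 2 = u - 1 := by
    have hneg : (-1 : ZMod p) ∉ sq p := fun h => hG.one_ne_neg_one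
      ((mem_sq.1 h).symm.trans hG.neg_one_pow_half)
    have hy : 1 + -1 / u ≠ 0 := fun h => hune1 (by field_simp at h; linear_combination h)
    have hfix : fixRel G 1 (1 + -1 / u) := fixRel_of_le hG hy fun σ hσ h0 h1 =>
      diff_fix hσ hG h1 h0 (by rw [zero_sub, hclsN _ (neg_ne_zero.2 one_ne_zero) hneg]; simp)
    have hm : 1 + -1 / u ∈ cls (fixRel G) 1 := mem_cls.2 ⟨hy, hfix⟩
    rw [hcls 1 h1sq] at hm
    simp only [Finset.mem_insert, Finset.mem_singleton, one_mul] at hm
    rcases hm with hm | hm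
    · field_simp at hm
      exact absurd (by linear_combination -hm : (1 : ZMod p) = 0) one_ne_zero
    · field_simp at hm
      linear_combination -hm
  have hu3 : u ^ 3 = -1 := by linear_combination (u + 1) * hquad
  -- non-trivial elements fixing `0`, `1` fix three points
  have h01u : ({0, 1, u} : Finset (ZMod p)).card = 3 := by
    rw [Finset.card_insert_of_notMem (by simp [Ne.symm hu0]),
      Finset.card_insert_of_notMem (by simp [Ne.symm hune1]), Finset.card_singleton]
  have hfix3 : ∀ σ ∈ G, σ 0 = 0 → σ 1 = 1 → σ ≠ 1 →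
      (Finset.univ.filter fun x => σ x = x).card = 3 := by
    intro σ hσ h0 h1 hne
    set F := Finset.univ.filter fun x => σ x = x with hFdef
    have hmem : ∀ x, x ∈ F ↔ σ x = x := fun x => by simp [F]
    refine le_antisymm ?_ ?_
    · by_contra hgt
      push Not at hgt
      let Q : (ZMod p)[X] := C (-(F.card : ZMod p)) * X ^ 3 + C (3 * ∑ y ∈ F, y) * X ^ 2
        + C (-3 * ∑ y ∈ F, y ^ 2) * X + C (∑ y ∈ F, y ^ 3)
      have hQe : ∀ a, Q.eval a = ∑ y ∈ F, (y - a) ^ 3 := by
        intro a
        have : ∀ y : ZMod p, (y - a) ^ 3 = -a ^ 3 + 3 * a ^ 2 * y - 3 * a * y ^ 2 + y ^ 3 :=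
          fun y => by ring
        simp only [Q, this, eval_add, eval_mul, eval_C, eval_pow, eval_X, Finset.sum_add_distrib,
          Finset.sum_sub_distrib, Finset.mul_sum, Finset.sum_mul, Finset.sum_const, nsmul_eq_mul]
        ring_nf
        simp only [Finset.sum_neg_distrib]
        ring
      have hQ0 : Q = 0 := by
        refine eq_zero_of_natDegree_lt_card_of_eval_eq_zero' Q F (fun a ha => ?_)
          (lt_of_le_of_lt (by simp only [Q]; compute_degree) hgt)
        rw [hQe]
        let o : ZMod p → ZMod p := fun z => if z ∈ sq p then z * u else z / u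
        have ho : ∀ z, z ≠ 0 → o z ≠ 0 ∧ o z ≠ z ∧ o (o z) = z ∧ (o z) ^ 3 = -z ^ 3 ∧
            o z ∈ cls (fixRel G) z := by
          intro z hz
          by_cases hzs : z ∈ sq p
          · have hn : z * u ∉ sq p := fun h => hG.one_ne_neg_one (by
              rw [mem_sq, mul_pow, mem_sq.1 hzs, hu] at h
              linear_combination -h)
            simp only [o, if_pos hzs, if_neg hn]
            refine ⟨mul_ne_zero hz hu0, fun h => hune1 ((mul_eq_left₀ hz).1 h), by field_simp,
              by rw [mul_pow, hu3]; ring, ?_⟩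
            rw [hcls z hzs]; simp
          · have he := hG.eq_div_mul_sq hz hzs hu
            simp only [o, if_neg hzs, if_pos he]
            refine ⟨div_ne_zero hz hu0, fun h => hune1 ?_, by field_simp,
              by rw [div_pow, hu3]; ring, ?_⟩
            · field_simp at h
              linear_combination (-1 : ZMod p) * h
            · rw [hclsN z hz hzs]; simp
        refine Finset.sum_involution (fun y _ => if y = a then y else a + o (y - a)) ?_ ?_ ?_ ?_
        · intro y hy
          by_cases hya : y = a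
          · simp [hya]
          · simp only [if_neg hya, add_sub_cancel_left, (ho _ (sub_ne_zero.2 hya)).2.2.2.1]
            ring
        · intro y hy hne0
          have hya : y ≠ a := fun h => hne0 (by simp [h])
          simp only [if_neg hya]
          exact fun h => (ho _ (sub_ne_zero.2 hya)).2.1 (by linear_combination h)
        · intro y hy
          rw [hmem] at hy ha ⊢
          by_cases hya : y = a
          · simp only [if_pos hya, hy]
          · simp only [if_neg hya]
            exact diff_fix hσ hG ha hy (ho _ (sub_ne_zero.2 hya)).2.2.2.2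
        · intro y hy
          by_cases hya : y = a
          · simp [hya]
          · have := ho _ (sub_ne_zero.2 hya)
            have hne : a + o (y - a) ≠ a := fun h => this.1 (by linear_combination h)
            simp only [if_neg hya, if_neg hne, add_sub_cancel_left, this.2.2.1, add_sub_cancel]
      have h3 := congrArg (fun P : (ZMod p)[X] => P.coeff 3) hQ0
      simp only [Q, coeff_add, coeff_C_mul, coeff_X_pow, coeff_X, coeff_C, coeff_zero] at h3
      norm_num at h3
      have hFlt : F.card < p := by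
        obtain ⟨x, hx⟩ : ∃ x, σ x ≠ x := by
          by_contra hcon
          push Not at hcon
          exact hne (Equiv.ext hcon)
        exact (Finset.card_lt_card (Finset.ssubset_univ_iff.2 fun (h : F = Finset.univ) =>
          hx ((hmem x).1 (by rw [h]; exact Finset.mem_univ x)))).trans_eq (Finset.card_univ.trans (ZMod.card p))
      exact natCast_ne_zero (by omega) hFlt h3
    · rw [← h01u]
      refine Finset.card_le_card fun x hx => (hmem x).2 ?_
      simp only [Finset.mem_insert, Finset.mem_singleton] at hx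
      rcases hx with rfl | rfl | rfl
      · exact h0
      · exact h1
      · exact ((mem_cls.1 (show x ∈ cls (fixRel G) 1 by rw [hcls 1 h1sq]; simp)).2 σ hσ h0).1 h1
  -- Burnside's count
  let T : Subgroup G := MulAction.stabilizer G (0 : ZMod p) ⊓ MulAction.stabilizer G (1 : ZMod p)
  have hgT : Fintype.card T = g := by rw [← Nat.card_eq_fintype_card]; rfl
  have hdvd : g ∣ p - 3 := by
    have hB := MulAction.sum_card_fixedBy_eq_card_orbits_mul_card_group T (ZMod p)
    have hcnt : ∀ t : T, t ≠ 1 → Fintype.card (MulAction.fixedBy (ZMod p) t) = 3 := by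
      intro t ht
      rw [← hfix3 _ t.1.2 t.2.1 t.2.2 fun h => ht (Subtype.ext (Subtype.ext h)), Fintype.card_subtype]
      congr 1
    have hone : Fintype.card (MulAction.fixedBy (ZMod p) (1 : T)) = p := by
      rw [Fintype.card_subtype]
      simp
    rw [← Finset.add_sum_erase _ _ (Finset.mem_univ (1 : T)), hone,
      Finset.sum_congr rfl (fun t ht => hcnt t (Finset.ne_of_mem_erase ht)), Finset.sum_const,
      Finset.card_erase_of_mem (Finset.mem_univ _), Finset.card_univ, hgT, smul_eq_mul] at hB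
    have hg1 : 1 ≤ g := hgT ▸ Fintype.card_pos
    have h3 : g ∣ p - 3 + g * 3 := by
      rw [show p - 3 + g * 3 = p + (g - 1) * 3 by omega, hB]
      exact dvd_mul_left _ _
    exact (Nat.dvd_add_left (dvd_mul_right g 3)).1 h3
  have hgle : g ≤ p - 3 := Nat.le_of_dvd (by omega) hdvd
  have hgeq : 2 * g = p + 1 := by
    have h3 := Nat.div_add_mod (2 * g) p
    rw [hg] at h3
    have hk : 2 * g / p < 2 := Nat.div_lt_of_lt_mul (by omega)
    interval_cases hk2 : 2 * g / p <;> omega
  obtain ⟨t, ht⟩ := hdvd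
  have h4 : g ∣ 4 := by
    refine (Nat.dvd_add_right (dvd_mul_left g t)).1 ?_
    refine ⟨2, ?_⟩
    rw [mul_comm t g, ← ht]
    omega
  have := Nat.le_of_dvd (by norm_num) h4
  omega

end Cfsg.Agent.PrimeDegreeBlocks
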