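import Cfsg.Agent.Lib.PrimeDegreeBlocks.Poly
import Mathlib.GroupTheory.GroupAction.Quotient
import Mathlib.GroupTheory.GroupAction.Basic

/-!
# Blocks of a point stabiliser in prime degree with square multipliers

A group of permutations of `ZMod p` (`p ≡ 3 mod 4`) containing the translations and the square
multipliers, which is not affine and doubly transitive, has primitive point stabilisers provided
`p > 7` and Sylow's congruence holds.
-/

set_option autoImplicit false

namespace Cfsg.Agent.PrimeDegreeBlocks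

open Polynomial
open scoped Classical

variable {p : ℕ} [hp : Fact p.Prime]

/-- The standing hypotheses. -/
structure Conf (G : Subgroup (Equiv.Perm (ZMod p))) : Prop where
  seven_lt : 7 < p
  mod_four : p % 4 = 3
  trans : ∀ b, Equiv.addRight b ∈ G
  scale : ∀ e ∈ sq p, ∃ σ ∈ G, ∀ x, σ x = e * x
  two : ∀ z : ZMod p, z ≠ 0 → ∃ σ ∈ G, σ 0 = 0 ∧ σ 1 = z
  notAffine : ∃ σ ∈ G, ¬ ∃ a b : ZMod p, ∀ x, σ x = a * x + b

/-- An equivalence on non-zero points invariant under the stabiliser of `0`. -/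
structure Rel (G : Subgroup (Equiv.Perm (ZMod p))) (R : ZMod p → ZMod p → Prop) : Prop where
  refl : ∀ x, x ≠ 0 → R x x
  symm : ∀ x y, x ≠ 0 → y ≠ 0 → R x y → R y x
  trans : ∀ x y z, x ≠ 0 → y ≠ 0 → z ≠ 0 → R x y → R y z → R x z
  inv : ∀ σ ∈ G, σ 0 = 0 → ∀ x y, x ≠ 0 → y ≠ 0 → R x y → R (σ x) (σ y)

/-- The class of a point. -/
noncomputable def cls (R : ZMod p → ZMod p → Prop) (z : ZMod p) : Finset (ZMod p) :=
  Finset.univ.filter fun y => y ≠ 0 ∧ R z y

theorem mem_cls {R : ZMod p → ZMod p → Prop} {z y : ZMod p} : y ∈ cls R z ↔ y ≠ 0 ∧ R z y := by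
  simp [cls]

/-- The difference map of a permutation at a point. -/
def diff (σ : Equiv.Perm (ZMod p)) (a : ZMod p) : Equiv.Perm (ZMod p) :=
  Equiv.addRight (-σ a) * (σ * Equiv.addRight a)

theorem diff_apply (σ : Equiv.Perm (ZMod p)) (a y : ZMod p) : diff σ a y = σ (a + y) - σ a := by
  simp [diff, add_comm y a, sub_eq_add_neg]

theorem diff_zero (σ : Equiv.Perm (ZMod p)) (a : ZMod p) : diff σ a 0 = 0 := by simp [diff_apply]

namespace Conf

variable {G : Subgroup (Equiv.Perm (ZMod p))}

theorem diff_mem (hG : Conf G) {σ : Equiv.Perm (ZMod p)} (hσ : σ ∈ G) (a : ZMod p) :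
    diff σ a ∈ G :=
  G.mul_mem (hG.trans _) (G.mul_mem hσ (hG.trans _))

theorem half (hG : Conf G) : 2 * ((p - 1) / 2) + 1 = p :=
  half_spec (hp := hp) (by have := hG.seven_lt; omega)

theorem neg_one_pow_half (hG : Conf G) : (-1 : ZMod p) ^ ((p - 1) / 2) = -1 :=
  Odd.neg_one_pow (by rw [Nat.odd_iff]; have := hG.mod_four; omega)

theorem one_ne_neg_one (hG : Conf G) : (1 : ZMod p) ≠ -1 := by
  intro h
  have h2 : ((2 : ℕ) : ZMod p) = 0 := by push_cast; linear_combination h
  exact natCast_ne_zero (by norm_num) (by have := hG.seven_lt; omega) h2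

theorem eq_div_mul_sq (hG : Conf G) {x u : ZMod p} (hx : x ≠ 0) (hxs : x ∉ sq p)
    (hu : u ^ ((p - 1) / 2) = -1) : x / u ∈ sq p := by
  rw [mem_sq, div_pow, hu,
    (pow_half_eq_or (by have := hG.seven_lt; omega) hx).resolve_left fun h => hxs (mem_sq.2 h)]
  norm_num

end Conf

namespace Rel

variable {G : Subgroup (Equiv.Perm (ZMod p))} {R : ZMod p → ZMod p → Prop}

theorem self_mem (hR : Rel G R) {z : ZMod p} (hz : z ≠ 0) : z ∈ cls R z :=
  mem_cls.2 ⟨hz, hR.refl z hz⟩

theorem cls_eq (hR : Rel G R) {z y : ZMod p} (hz : z ≠ 0) (hy : y ∈ cls R z) :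
    cls R y = cls R z := by
  obtain ⟨hy0, hzy⟩ := mem_cls.1 hy
  ext x
  simp only [mem_cls]
  exact ⟨fun ⟨hx, h⟩ => ⟨hx, hR.trans z y x hz hy0 hx hzy h⟩,
    fun ⟨hx, h⟩ => ⟨hx, hR.trans y z x hy0 hz hx (hR.symm z y hz hy0 hzy) h⟩⟩

theorem image_cls_subset (hR : Rel G R) {σ : Equiv.Perm (ZMod p)} (hσ : σ ∈ G) (h0 : σ 0 = 0)
    {z : ZMod p} (hz : z ≠ 0) : (cls R z).image σ ⊆ cls R (σ z) := by
  rw [Finset.image_subset_iff]
  intro y hy
  obtain ⟨hy0, hzy⟩ := mem_cls.1 hy
  exact mem_cls.2 ⟨fun h => hy0 (σ.injective (h.trans h0.symm)), hR.inv σ hσ h0 z y hz hy0 hzy⟩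

theorem card_le (hR : Rel G R) {σ : Equiv.Perm (ZMod p)} (hσ : σ ∈ G) (h0 : σ 0 = 0)
    {z : ZMod p} (hz : z ≠ 0) : (cls R z).card ≤ (cls R (σ z)).card := by
  rw [← Finset.card_image_of_injective _ σ.injective]
  exact Finset.card_le_card (hR.image_cls_subset hσ h0 hz)

theorem card_cls (hR : Rel G R) (hG : Conf G) {z : ZMod p} (hz : z ≠ 0) :
    (cls R z).card = (cls R 1).card := by
  obtain ⟨σ, hσ, h0, h1⟩ := hG.two z hz
  refine le_antisymm ?_ (h1 ▸ hR.card_le hσ h0 one_ne_zero)
  have := hR.card_le (G.inv_mem hσ) (σ.symm_apply_eq.2 h0.symm) hz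
  rwa [show σ⁻¹ z = 1 from σ.symm_apply_eq.2 h1.symm] at this

theorem image_cls (hR : Rel G R) (hG : Conf G) {σ : Equiv.Perm (ZMod p)} (hσ : σ ∈ G)
    (h0 : σ 0 = 0) {z : ZMod p} (hz : z ≠ 0) : (cls R z).image σ = cls R (σ z) := by
  have hσz : σ z ≠ 0 := fun h => hz (σ.injective (h.trans h0.symm))
  refine Finset.eq_of_subset_of_card_le (hR.image_cls_subset hσ h0 hz) (le_of_eq ?_)
  rw [Finset.card_image_of_injective _ σ.injective, hR.card_cls hG hz, hR.card_cls hG hσz]

theorem cls_mul (hR : Rel G R) (hG : Conf G) {e z : ZMod p} (he : e ∈ sq p) (hz : z ≠ 0) :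
    cls R (e * z) = (cls R z).image (e * ·) := by
  obtain ⟨σ, hσ, hσe⟩ := hG.scale e he
  rw [← hσe z, ← hR.image_cls hG hσ (by rw [hσe, mul_zero]) hz]
  exact Finset.image_congr fun x _ => hσe x

/-- Power sums over the image of a class. -/
theorem sum_diff_pow (hR : Rel G R) (hG : Conf G) {σ : Equiv.Perm (ZMod p)} (hσ : σ ∈ G)
    (a : ZMod p) {z : ZMod p} (hz : z ≠ 0) (k : ℕ) :
    ∑ y ∈ cls R z, (σ (a + y) - σ a) ^ k = ∑ w ∈ cls R (diff σ a z), w ^ k := by
  rw [← hR.image_cls hG (hG.diff_mem hσ a) (diff_zero σ a) hz,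
    Finset.sum_image (diff σ a).injective.injOn]
  simp only [diff_apply]

theorem sum_pow_of_vanish (hR : Rel G R) (hG : Conf G) {σ : Equiv.Perm (ZMod p)} (hσ : σ ∈ G)
    {i : ℕ} (hvan : ∀ k, 0 < k → k ≤ i → ∀ w, w ≠ 0 → ∑ y ∈ cls R w, y ^ k = 0)
    (a : ZMod p) {z : ZMod p} (hz : z ≠ 0) :
    ∑ y ∈ cls R z, σ (a + y) ^ i = (cls R z).card * σ a ^ i := by
  refine sum_pow_eq_of_differences (cls R z) (fun y => σ (a + y)) (σ a) i fun k hk hki => ?_
  rw [hR.sum_diff_pow hG hσ a hz]
  exact hvan k hk hki _ fun h => hz ((diff σ a).injective (h.trans (diff_zero σ a).symm))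

/-- Classes which are cosets of a multiplicative set are impossible. -/
theorem false_of_uniform (hR : Rel G R) (hG : Conf G) {K : Finset (ZMod p)} (hK : MulSet K)
    (h2 : 2 ≤ K.card) (hp2 : 2 * K.card ≤ p)
    (hcls : ∀ z, z ≠ 0 → cls R z = K.image (z * ·)) : False := by
  obtain ⟨σ, hσ, hna⟩ := hG.notAffine
  refine hna (affine_of_powers h2 hp2 σ fun i hi => natDegree_lt_of_average hK _ (natDegree_interp _)
    fun a z hz => ?_)
  simp only [eval_interp]
  have hvan : ∀ k, 0 < k → k ≤ i → ∀ w : ZMod p, w ≠ 0 → ∑ y ∈ cls R w, y ^ k = 0 := by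
    intro k hk hki w hw
    rw [hcls w hw, Finset.sum_image (mul_right_injective₀ hw).injOn]
    simp only [mul_pow, ← Finset.mul_sum]
    rw [hK.sum_pow_eq_zero (fun h => by have := Nat.le_of_dvd hk h; omega), mul_zero]
  have h := hR.sum_pow_of_vanish hG hσ hvan a hz
  rwa [hcls z hz, Finset.sum_image (mul_right_injective₀ hz).injOn,
    Finset.card_image_of_injective _ (mul_right_injective₀ hz)] at h

/-- Classes made of two cosets are impossible unless they have two elements. -/
theorem false_of_pair (hR : Rel G R) (hG : Conf G) {H : Finset (ZMod p)} (hH : MulSet H)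
    (hHsq : H ⊆ sq p) (h2 : 2 ≤ H.card) (hdm : H.card < (p - 1) / 2) {u : ZMod p}
    (hu : u ^ ((p - 1) / 2) = -1) (hud : u ^ H.card ≠ -1)
    (hcls : ∀ s ∈ sq p, cls R s = H.image (s * ·) ∪ H.image (s * u * ·)) : False := by
  have hu0 : u ≠ 0 := fun h => by
    rw [h, zero_pow (by omega)] at hu
    simp at hu
  have hdisj : ∀ s ∈ sq p, Disjoint (H.image (s * ·)) (H.image (s * u * ·)) := by
    intro s hs
    rw [Finset.disjoint_left]
    intro x hx hx'
    obtain ⟨h, hh, rfl⟩ := Finset.mem_image.1 hx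
    obtain ⟨k, hk, hkx⟩ := Finset.mem_image.1 hx'
    have := congrArg (fun y : ZMod p => y ^ ((p - 1) / 2)) hkx
    simp only [mul_pow, mem_sq.1 hs, hu, mem_sq.1 (hHsq hh), mem_sq.1 (hHsq hk), one_mul,
      mul_one] at this
    exact hG.one_ne_neg_one this.symm
  have hs0 : ∀ s ∈ sq p, s ≠ 0 := fun s hs h => by
    have := mem_sq.1 hs
    rw [h, zero_pow (by omega)] at this
    exact zero_ne_one this
  have hsum : ∀ s ∈ sq p, ∀ f : ZMod p → ZMod p,
      ∑ y ∈ cls R s, f y = ∑ h ∈ H, f (s * h) + ∑ h ∈ H, f (s * u * h) := fun s hs f => by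
    rw [hcls s hs, Finset.sum_union (hdisj s hs),
      Finset.sum_image (mul_right_injective₀ (hs0 s hs)).injOn,
      Finset.sum_image (mul_right_injective₀ (mul_ne_zero (hs0 s hs) hu0)).injOn]
  have hcard : ∀ s ∈ sq p, (cls R s).card = 2 * H.card := fun s hs => by
    rw [hcls s hs, Finset.card_union_of_disjoint (hdisj s hs),
      Finset.card_image_of_injective _ (mul_right_injective₀ (hs0 s hs)),
      Finset.card_image_of_injective _ (mul_right_injective₀ (mul_ne_zero (hs0 s hs) hu0))]
    omega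
  obtain ⟨σ, hσ, hna⟩ := hG.notAffine
  refine hna (affine_of_powers h2 (by omega) σ fun i hi =>
    natDegree_lt_of_pair_average hH hdm hud _ (natDegree_interp _) fun a s hs => ?_)
  simp only [eval_interp]
  have hvan : ∀ k, 0 < k → k ≤ i → ∀ w : ZMod p, w ≠ 0 → ∑ y ∈ cls R w, y ^ k = 0 := by
    intro k hk hki w hw
    obtain ⟨t, ht, hwt⟩ : ∃ t ∈ sq p, w ∈ cls R t := by
      by_cases hws : w ∈ sq p
      · exact ⟨w, hws, hR.self_mem hw⟩
      · refine ⟨w / u, hG.eq_div_mul_sq hw hws hu, ?_⟩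
        rw [hcls _ (hG.eq_div_mul_sq hw hws hu)]
        exact Finset.mem_union_right _ (Finset.mem_image.2 ⟨1, hH.one_mem, by field_simp⟩)
    rw [hR.cls_eq (hs0 t ht) hwt, hsum t ht]
    simp only [mul_pow, ← Finset.mul_sum]
    rw [hH.sum_pow_eq_zero (fun h => by have := Nat.le_of_dvd hk h; omega)]
    simp
  rw [← hsum s hs (fun y => σ (a + y) ^ i), hR.sum_pow_of_vanish hG hσ hvan a (hs0 s hs),
    hcard s hs]

/-- The only possible non-trivial classes have two elements `{s, s u}` (`s` a square). -/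
theorem classify (hR : Rel G R) (hG : Conf G) (h2 : 2 ≤ (cls R 1).card)
    (hlt : (cls R 1).card < p - 1) :
    ∃ u : ZMod p, u ^ ((p - 1) / 2) = -1 ∧ u ≠ -1 ∧ (cls R 1).card = 2 ∧
      ∀ s ∈ sq p, cls R s = {s, s * u} := by
  have hhalf := hG.half
  have h7 := hG.seven_lt
  have hs0 : ∀ s ∈ sq p, s ≠ 0 := fun s hs h => by
    have := mem_sq.1 hs
    rw [h, zero_pow (by omega)] at this
    exact zero_ne_one this
  have h1sq : (1 : ZMod p) ∈ sq p := mem_sq.2 (one_pow _)
  set H := (cls R 1).filter (· ∈ sq p) with hHdef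
  have hmemH : ∀ h, h ∈ H ↔ h ∈ cls R 1 ∧ h ∈ sq p := fun h => Finset.mem_filter
  have hsclass : ∀ e ∈ sq p, cls R e = (cls R 1).image (e * ·) := fun e he => by
    rw [← hR.cls_mul hG he one_ne_zero, mul_one]
  have hstab : ∀ e ∈ H, (cls R 1).image (e * ·) = cls R 1 := fun e he => by
    rw [← hsclass e ((hmemH e).1 he).2]
    exact hR.cls_eq one_ne_zero ((hmemH e).1 he).1
  have hH : MulSet H :=
    { one_mem := (hmemH 1).2 ⟨hR.self_mem one_ne_zero, h1sq⟩
      ne_zero := fun h hh => (mem_cls.1 ((hmemH h).1 hh).1).1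
      mul_mem := fun h hh k hk => (hmemH _).2 ⟨hstab h hh ▸ Finset.mem_image_of_mem _ ((hmemH k).1 hk).1,
        by rw [mem_sq, mul_pow, mem_sq.1 ((hmemH h).1 hh).2, mem_sq.1 ((hmemH k).1 hk).2, one_mul]⟩ }
  have hHsq : H ⊆ sq p := fun h hh => ((hmemH h).1 hh).2
  have hHdvd : H.card ∣ (p - 1) / 2 := hH.card_dvd fun h hh => mem_sq.1 (hHsq hh)
  by_cases hall : ∀ y ∈ cls R 1, y ∈ sq p
  · -- all classes are cosets
    exfalso
    have hHeq : H = cls R 1 := by rw [hHdef]; exact Finset.filter_true_of_mem hall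
    refine hR.false_of_uniform hG hH (hHeq ▸ h2) ?_ fun z hz => ?_
    · have := Nat.le_of_dvd (by omega) hHdvd
      omega
    by_cases hzs : z ∈ sq p
    · rw [hsclass z hzs, hHeq]
    have hzno : ∀ y ∈ cls R z, y ∉ sq p := by
      intro y hy hys
      have h3 : z ∈ cls R y := by rw [hR.cls_eq hz hy]; exact hR.self_mem hz
      rw [hsclass y hys] at h3
      obtain ⟨h, hh, hhz⟩ := Finset.mem_image.1 h3
      exact hzs (by rw [← hhz, mem_sq, mul_pow, mem_sq.1 hys, mem_sq.1 (hall h hh), one_mul])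
    set K := (cls R z).image (z⁻¹ * ·) with hKdef
    have hKcard : K.card = H.card := by
      rw [hKdef, Finset.card_image_of_injective _ (mul_right_injective₀ (inv_ne_zero hz)),
        hR.card_cls hG hz, hHeq]
    have hzm : z ^ ((p - 1) / 2) = -1 :=
      (pow_half_eq_or (by omega) hz).resolve_left fun h => hzs (mem_sq.2 h)
    have hKsq : ∀ y ∈ cls R z, z⁻¹ * y ∈ sq p := fun y hy => by
      rw [← div_eq_inv_mul]
      exact hG.eq_div_mul_sq (mem_cls.1 hy).1 (hzno y hy) hzm
    have hKm : MulSet K :=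
      { one_mem := Finset.mem_image.2 ⟨z, hR.self_mem hz, inv_mul_cancel₀ hz⟩
        ne_zero := fun k hk => by
          obtain ⟨y, hy, rfl⟩ := Finset.mem_image.1 hk
          exact mul_ne_zero (inv_ne_zero hz) (mem_cls.1 hy).1
        mul_mem := fun k hk l hl => by
          obtain ⟨y, hy, rfl⟩ := Finset.mem_image.1 hk
          obtain ⟨y', hy', rfl⟩ := Finset.mem_image.1 hl
          have h4 : cls R y = (cls R z).image (z⁻¹ * y * ·) := by
            rw [← hR.cls_mul hG (hKsq y hy) hz]
            congr 1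
            field_simp
          have h5 : z⁻¹ * y * y' ∈ cls R z := by
            rw [← hR.cls_eq hz hy, h4]
            exact Finset.mem_image_of_mem _ hy'
          exact Finset.mem_image.2 ⟨_, h5, by ring⟩ }
    have hHK : H ⊆ K :=
      eq_of_pow_eq_one hH.card_pos hKcard (fun x hx => hKcard ▸ hKm.pow_card hx)
        (fun x hx => hH.pow_card hx)
    have hKH : K = H := (Finset.eq_of_subset_of_card_le hHK hKcard.le).symm
    rw [← hKH, hKdef, Finset.image_image]
    conv_lhs => rw [← Finset.image_id (s := cls R z)]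
    exact Finset.image_congr fun y _ => (mul_inv_cancel_left₀ hz y).symm
  · push Not at hall
    obtain ⟨u, hu1, husq⟩ := hall
    have hu0 : u ≠ 0 := (mem_cls.1 hu1).1
    have hu : u ^ ((p - 1) / 2) = -1 :=
      (pow_half_eq_or (by omega) hu0).resolve_left fun h => husq (mem_sq.2 h)
    have hcls1 : cls R 1 = H ∪ H.image (u * ·) := by
      refine subset_antisymm (fun y hy => ?_) (Finset.union_subset (Finset.filter_subset _ _) ?_)
      · by_cases hys : y ∈ sq p
        · exact Finset.mem_union_left _ ((hmemH y).2 ⟨hy, hys⟩)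
        · refine Finset.mem_union_right _ (Finset.mem_image.2 ⟨y / u, ?_, by field_simp⟩)
          have he := hG.eq_div_mul_sq (mem_cls.1 hy).1 hys hu
          refine (hmemH _).2 ⟨?_, he⟩
          have h3 : y ∈ cls R (y / u) := by
            rw [hsclass _ he]
            exact Finset.mem_image.2 ⟨u, hu1, by field_simp⟩
          rw [← hR.cls_eq one_ne_zero hy, hR.cls_eq (hs0 _ he) h3]
          exact hR.self_mem (hs0 _ he)
      · rw [Finset.image_subset_iff]
        intro h hh
        rw [mul_comm, ← hstab h hh]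
        exact Finset.mem_image_of_mem _ hu1
    have hdisj : Disjoint H (H.image (u * ·)) := by
      rw [Finset.disjoint_left]
      intro x hx hx'
      obtain ⟨k, hk, hkx⟩ := Finset.mem_image.1 hx'
      have := congrArg (fun y : ZMod p => y ^ ((p - 1) / 2)) hkx
      simp only [mul_pow, hu, mem_sq.1 (hHsq hx), mem_sq.1 (hHsq hk), mul_one] at this
      exact hG.one_ne_neg_one this.symm
    have hc : (cls R 1).card = 2 * H.card := by
      rw [hcls1, Finset.card_union_of_disjoint hdisj,
        Finset.card_image_of_injective _ (mul_right_injective₀ hu0)]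
      omega
    have hdm : H.card < (p - 1) / 2 := by omega
    have h2d : 2 * H.card ≤ (p - 1) / 2 := by
      obtain ⟨t, ht⟩ := hHdvd
      have ht2 : 2 ≤ t := by
        by_contra hcon
        interval_cases t <;> omega
      rw [ht, mul_comm H.card t]
      exact Nat.mul_le_mul_right _ ht2
    by_cases hud : u ^ H.card = -1
    · exfalso
      set K := H ∪ H.image (u * ·) with hKdef
      have hKpow : ∀ x ∈ K, x ^ (2 * H.card) = 1 := by
        intro x hx
        rcases Finset.mem_union.1 hx with hx | hx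
        · rw [pow_mul', hH.pow_card hx, one_pow]
        · obtain ⟨h, hh, rfl⟩ := Finset.mem_image.1 hx
          rw [pow_mul', mul_pow, hud, hH.pow_card hh]
          norm_num
      have hKcard : K.card = 2 * H.card := by rw [← hcls1, hc]
      have hKroots : ∀ x, x ^ (2 * H.card) = 1 → x ∈ K := fun x hx =>
        eq_of_pow_eq_one (T := {x}) (by have := hH.card_pos; omega) hKcard hKpow
          (by simpa using hx) (Finset.mem_singleton_self x)
      have hKm : MulSet K :=
        { one_mem := Finset.mem_union_left _ hH.one_mem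
          ne_zero := fun k hk h => by
            have := hKpow k hk
            rw [h, zero_pow (by have := hH.card_pos; omega)] at this
            exact zero_ne_one this
          mul_mem := fun k hk l hl => hKroots _ (by rw [mul_pow, hKpow k hk, hKpow l hl, one_mul]) }
      refine hR.false_of_uniform hG hKm (by omega) (by omega) fun z hz => ?_
      by_cases hzs : z ∈ sq p
      · rw [hsclass z hzs, hcls1]
      · have he := hG.eq_div_mul_sq hz hzs hu
        have h3 : z ∈ cls R (z / u) := by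
          rw [hsclass _ he]
          exact Finset.mem_image.2 ⟨u, hu1, by field_simp⟩
        have huK : u ∈ K := Finset.mem_union_right _ (Finset.mem_image.2 ⟨1, hH.one_mem, mul_one u⟩)
        rw [hR.cls_eq (hs0 _ he) h3, hsclass _ he, hcls1,
          show (K.image (z * ·)) = (K.image (u * ·)).image (z / u * ·) by
            rw [Finset.image_image]; exact Finset.image_congr fun y _ => by simp; field_simp,
          hKm.image_mul huK]
    · by_cases hd2 : 2 ≤ H.card
      · exfalso
        refine hR.false_of_pair hG hH hHsq hd2 hdm hu hud fun s hs => ?_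
        rw [hsclass s hs, hcls1, Finset.image_union, Finset.image_image]
        congr 1
        exact Finset.image_congr fun y _ => by simp [mul_assoc]
      · have hH1 : H = {1} := (Finset.eq_of_subset_of_card_le
          (Finset.singleton_subset_iff.2 hH.one_mem)
          (by rw [Finset.card_singleton]; have := hH.card_pos; omega)).symm
        have hcard1 : H.card = 1 := by rw [hH1, Finset.card_singleton]
        refine ⟨u, hu, fun h => hud (by rw [hcard1, pow_one, h]), by omega, fun s hs => ?_⟩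
        rw [hsclass s hs, hcls1, hH1]
        simp [Finset.image_insert, Finset.pair_comm]

end Rel

end Cfsg.Agent.PrimeDegreeBlocks
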