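import Mathlib.Algebra.Polynomial.Roots
import Mathlib.Algebra.Polynomial.Taylor
import Mathlib.Algebra.Field.ZMod
import Mathlib.FieldTheory.Finite.Basic
import Mathlib.LinearAlgebra.Lagrange
import Mathlib.Data.Nat.Choose.Sum
import Mathlib.Tactic
import Mathlib.Data.Nat.Prime.Factorial

/-!
# Power sums over multiplicative sets and degree bounds for polynomial functions on `ZMod p`
-/

set_option autoImplicit false

namespace Cfsg.Agent.PrimeDegreeBlocks

open Polynomial

variable {p : ℕ} [hp : Fact p.Prime]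

/-- A finite set of non-zero field elements containing `1` and closed under multiplication. -/
structure MulSet (H : Finset (ZMod p)) : Prop where
  one_mem : 1 ∈ H
  ne_zero : ∀ h ∈ H, h ≠ 0
  mul_mem : ∀ h ∈ H, ∀ k ∈ H, h * k ∈ H

theorem card_le_of_pow_eq_one {S : Finset (ZMod p)} {k : ℕ} (hk : 0 < k)
    (h : ∀ x ∈ S, x ^ k = 1) : S.card ≤ k := by
  have h1 : (X ^ k - C (1 : ZMod p)).natDegree = k := natDegree_X_pow_sub_C
  refine (card_le_degree_of_subset_roots (p := X ^ k - C (1 : ZMod p)) ?_).trans h1.le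
  intro x hx
  rw [mem_roots (X_pow_sub_C_ne_zero hk 1)]
  simp [h x hx]

theorem eq_of_pow_eq_one {S T : Finset (ZMod p)} {k : ℕ} (hk : 0 < k) (hS : S.card = k)
    (hSp : ∀ x ∈ S, x ^ k = 1) (hTp : ∀ x ∈ T, x ^ k = 1) : T ⊆ S := by
  intro x hx
  by_contra hxS
  have h := card_le_of_pow_eq_one hk (S := insert x S) (by
    simp only [Finset.mem_insert]
    rintro y (rfl | hy)
    · exact hTp _ hx
    · exact hSp _ hy)
  rw [Finset.card_insert_of_notMem hxS] at h
  omega

namespace MulSet

variable {H : Finset (ZMod p)}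

theorem card_pos (hH : MulSet H) : 0 < H.card := Finset.card_pos.2 ⟨1, hH.one_mem⟩

theorem image_mul (hH : MulSet H) {h : ZMod p} (hh : h ∈ H) : H.image (h * ·) = H :=
  Finset.eq_of_subset_of_card_le (Finset.image_subset_iff.2 fun k hk => hH.mul_mem h hh k hk)
    (by rw [Finset.card_image_of_injective _ (mul_right_injective₀ (hH.ne_zero h hh))])

theorem pow_card (hH : MulSet H) {h : ZMod p} (hh : h ∈ H) : h ^ H.card = 1 := by
  have h1 : ∏ x ∈ H.image (h * ·), x = ∏ x ∈ H, (h * x) :=
    Finset.prod_image fun x _ y _ hxy => mul_right_injective₀ (hH.ne_zero h hh) hxy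
  rw [hH.image_mul hh, Finset.prod_mul_distrib, Finset.prod_const] at h1
  have h2 : ∏ x ∈ H, x ≠ 0 := Finset.prod_ne_zero_iff.2 hH.ne_zero
  exact mul_right_cancel₀ h2 (by rw [one_mul, ← h1])

theorem card_dvd (hH : MulSet H) {k : ℕ} (hk : ∀ h ∈ H, h ^ k = 1) : H.card ∣ k := by
  rw [Nat.dvd_iff_mod_eq_zero]
  by_contra hne
  have hlt := Nat.mod_lt k hH.card_pos
  have := card_le_of_pow_eq_one (S := H) (Nat.pos_of_ne_zero hne) fun h hh => by
    rw [← hk h hh]
    conv_rhs => rw [← Nat.div_add_mod k H.card, pow_add, pow_mul, hH.pow_card hh, one_pow, one_mul]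
  omega

theorem sum_pow (hH : MulSet H) (k : ℕ) :
    ∑ h ∈ H, h ^ k = if H.card ∣ k then (H.card : ZMod p) else 0 := by
  split_ifs with hk
  · obtain ⟨t, rfl⟩ := hk
    have : ∀ h ∈ H, h ^ (H.card * t) = 1 := fun h hh => by rw [pow_mul, hH.pow_card hh, one_pow]
    rw [Finset.sum_congr rfl this]
    simp
  · obtain ⟨h, hh, hne⟩ : ∃ h ∈ H, h ^ k ≠ 1 := by
      by_contra hcon
      push Not at hcon
      exact hk (hH.card_dvd hcon)
    have h1 : ∑ x ∈ H.image (h * ·), x ^ k = ∑ x ∈ H, (h * x) ^ k :=
      Finset.sum_image fun x _ y _ hxy => mul_right_injective₀ (hH.ne_zero h hh) hxy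
    rw [hH.image_mul hh] at h1
    simp only [mul_pow, ← Finset.mul_sum] at h1
    have h2 : (h ^ k - 1) * ∑ x ∈ H, x ^ k = 0 := by linear_combination -h1
    exact (mul_eq_zero.1 h2).resolve_left (sub_ne_zero.2 hne)

theorem sum_pow_eq_zero (hH : MulSet H) {k : ℕ} (hk : ¬ H.card ∣ k) : ∑ h ∈ H, h ^ k = 0 := by
  rw [hH.sum_pow, if_neg hk]

end MulSet

/-- Polynomial of degree `< p` inducing a given function. -/
noncomputable def interp (f : ZMod p → ZMod p) : (ZMod p)[X] :=
  Lagrange.interpolate Finset.univ id f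

theorem eval_interp (f : ZMod p → ZMod p) (x : ZMod p) : (interp f).eval x = f x :=
  Lagrange.eval_interpolate_at_node f Function.injective_id.injOn (Finset.mem_univ x)

theorem natDegree_interp (f : ZMod p → ZMod p) : (interp f).natDegree < p := by
  rcases eq_or_ne (interp f) 0 with h | h
  · rw [h, natDegree_zero]; exact hp.out.pos
  · rw [natDegree_lt_iff_degree_lt h]
    have := Lagrange.degree_interpolate_lt (s := (Finset.univ : Finset (ZMod p))) (v := id) f
      Function.injective_id.injOn
    rwa [Finset.card_univ, ZMod.card] at this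

theorem eq_of_eval_eq {P Q : (ZMod p)[X]} (hP : P.natDegree < p) (hQ : Q.natDegree < p)
    (h : ∀ x, P.eval x = Q.eval x) : P = Q := by
  rw [← sub_eq_zero]
  refine eq_zero_of_natDegree_lt_card_of_eval_eq_zero _ Function.injective_id
    (fun x => by simp [h]) ?_
  rw [ZMod.card]
  exact (natDegree_sub_le _ _).trans_lt (max_lt hP hQ)

theorem natCast_ne_zero {n : ℕ} (h0 : 0 < n) (hn : n < p) : (n : ZMod p) ≠ 0 := fun h => by
  have := Nat.le_of_dvd h0 ((ZMod.natCast_eq_zero_iff n p).1 h)
  omega

theorem choose_ne_zero {n k : ℕ} (hn : n < p) (hk : k ≤ n) : (Nat.choose n k : ZMod p) ≠ 0 := by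
  rw [Ne, ZMod.natCast_eq_zero_iff]
  intro h
  have h1 : p ∣ Nat.factorial n := by
    rw [← Nat.choose_mul_factorial_mul_factorial hk]
    exact dvd_mul_of_dvd_left (dvd_mul_of_dvd_left h _) _
  have := (Nat.Prime.dvd_factorial hp.out).1 h1
  omega

theorem coeff_hasseDeriv_top (P : (ZMod p)[X]) {k : ℕ} (hk : k ≤ P.natDegree) :
    (hasseDeriv k P).coeff (P.natDegree - k) = (Nat.choose P.natDegree k : ZMod p) * P.leadingCoeff := by
  rw [hasseDeriv_coeff, Nat.sub_add_cancel hk]
  rfl

theorem taylor_sum {ι : Type*} (s : Finset ι) (v : ι → ZMod p) (P : (ZMod p)[X]) (a : ZMod p) :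
    ∑ i ∈ s, P.eval (a + v i) =
      ∑ j ∈ Finset.range (P.natDegree + 1), (hasseDeriv j P).eval a * ∑ i ∈ s, v i ^ j := by
  have h : ∀ i, P.eval (a + v i) =
      ∑ j ∈ Finset.range (P.natDegree + 1), (hasseDeriv j P).eval a * v i ^ j := by
    intro i
    rw [show P.eval (a + v i) = (taylor a P).eval (v i) by rw [taylor_eval, add_comm]]
    rw [eval_eq_sum_range, natDegree_taylor]
    exact Finset.sum_congr rfl fun j _ => by rw [taylor_coeff]
  simp only [h]
  rw [Finset.sum_comm]
  exact Finset.sum_congr rfl fun j _ => (Finset.mul_sum _ _ _).symm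

/-- Invariance of averages over all dilates of a multiplicative set bounds the degree. -/
theorem natDegree_lt_of_average {H : Finset (ZMod p)} (hH : MulSet H) (P : (ZMod p)[X])
    (hP : P.natDegree < p)
    (h : ∀ a z : ZMod p, z ≠ 0 → ∑ x ∈ H, P.eval (a + z * x) = H.card * P.eval a) :
    P.natDegree < H.card := by
  set c := H.card with hc
  by_contra hr
  push Not at hr
  have hc0 : (c : ZMod p) ≠ 0 := natCast_ne_zero hH.card_pos (by omega)
  have hderiv : hasseDeriv c P = 0 := by
    refine eq_of_eval_eq ((natDegree_hasseDeriv_le P c).trans_lt (by omega))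
      (by rw [natDegree_zero]; exact hp.out.pos) fun a => ?_
    let G : (ZMod p)[X] := ∑ j ∈ Finset.range (P.natDegree + 1),
      C ((hasseDeriv j P).eval a * ∑ x ∈ H, x ^ j) * X ^ j
    have hG : G = C ((c : ZMod p) * P.eval a) := by
      refine eq_of_eval_eq ?_ (by rw [natDegree_C]; exact hp.out.pos) fun z => ?_
      · refine lt_of_le_of_lt (natDegree_sum_le_of_forall_le _ _ fun j hj => ?_) hP
        exact (natDegree_C_mul_X_pow_le _ _).trans (by have := Finset.mem_range.1 hj; omega)
      · simp only [G, eval_finsetSum, eval_mul, eval_C, eval_pow, eval_X]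
        rcases eq_or_ne z 0 with rfl | hz
        · rw [Finset.sum_eq_single 0]
          · simp [hc]
            ring
          · intro j _ hj; rw [zero_pow hj, mul_zero]
          · intro hj; exact absurd (Finset.mem_range.2 (Nat.succ_pos _)) hj
        · rw [← h a z hz, taylor_sum H (fun x => z * x) P a]
          refine Finset.sum_congr rfl fun j _ => ?_
          simp only [mul_pow, ← Finset.mul_sum]
          ring
    have h1 := congrArg (fun Q : (ZMod p)[X] => Q.coeff c) hG
    simp only [G, finsetSum_coeff, coeff_C_mul_X_pow, coeff_C] at h1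
    rw [if_neg (by have := hH.card_pos; omega),
      Finset.sum_ite_eq (Finset.range (P.natDegree + 1)) c, if_pos (Finset.mem_range.2 (by omega)),
      hH.sum_pow, if_pos dvd_rfl] at h1
    rw [eval_zero]
    exact (mul_eq_zero.1 h1).resolve_right hc0
  have h2 := coeff_hasseDeriv_top P hr
  rw [hderiv, coeff_zero] at h2
  rcases mul_eq_zero.1 h2.symm with h3 | h3
  · exact choose_ne_zero hP hr h3
  · rw [leadingCoeff_eq_zero] at h3
    rw [h3, natDegree_zero] at hr
    have := hH.card_pos
    omega

/-- The non-zero squares, as roots of unity. -/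
noncomputable def sq (p : ℕ) [Fact p.Prime] : Finset (ZMod p) :=
  Finset.univ.filter fun x => x ^ ((p - 1) / 2) = 1

theorem mem_sq {x : ZMod p} : x ∈ sq p ↔ x ^ ((p - 1) / 2) = 1 := by simp [sq]

theorem half_spec (h2 : 2 < p) : 2 * ((p - 1) / 2) + 1 = p := by
  have := hp.out.eq_two_or_odd
  omega

theorem pow_half_eq_or (h2 : 2 < p) {x : ZMod p} (hx : x ≠ 0) :
    x ^ ((p - 1) / 2) = 1 ∨ x ^ ((p - 1) / 2) = -1 := by
  have h := ZMod.pow_card_sub_one_eq_one hx
  rw [show p - 1 = (p - 1) / 2 * 2 by have := half_spec (hp := hp) h2; omega, pow_mul, sq_eq_one_iff] at h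
  exact h

theorem card_sq (h2 : 2 < p) : (sq p).card = (p - 1) / 2 := by
  have hm := half_spec (hp := hp) h2
  refine le_antisymm (card_le_of_pow_eq_one (by omega) fun x hx => mem_sq.1 hx) ?_
  by_contra hlt
  push Not at hlt
  let N : Finset (ZMod p) := Finset.univ.filter fun x => x ^ ((p - 1) / 2) = -1
  have hN : N.card ≤ (p - 1) / 2 := by
    refine (card_le_degree_of_subset_roots (p := X ^ ((p - 1) / 2) - C (-1 : ZMod p)) ?_).trans
      natDegree_X_pow_sub_C.le
    intro x hx
    rw [mem_roots (X_pow_sub_C_ne_zero (by omega) _)]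
    have hx' : x ^ ((p - 1) / 2) = -1 := by simpa [N] using hx
    simp [hx']
  have hcov : (Finset.univ.erase (0 : ZMod p)) ⊆ sq p ∪ N := by
    intro x hx
    rcases pow_half_eq_or h2 (Finset.ne_of_mem_erase hx) with h | h
    · exact Finset.mem_union_left _ (mem_sq.2 h)
    · exact Finset.mem_union_right _ (by simp [N, h])
  have := (Finset.card_le_card hcov).trans (Finset.card_union_le _ _)
  rw [Finset.card_erase_of_mem (Finset.mem_univ _), Finset.card_univ, ZMod.card] at this
  omega

/-- The same with two cosets, dilating by squares only. -/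
theorem natDegree_lt_of_pair_average {H : Finset (ZMod p)} (hH : MulSet H) {u : ZMod p}
    (hd : H.card < (p - 1) / 2) (hu : u ^ H.card ≠ -1) (P : (ZMod p)[X]) (hP : P.natDegree < p)
    (h : ∀ a : ZMod p, ∀ s ∈ sq p, ∑ x ∈ H, P.eval (a + s * x) + ∑ x ∈ H, P.eval (a + s * u * x) =
      (2 * H.card : ℕ) * P.eval a) :
    P.natDegree < H.card := by
  set d := H.card with hdc
  set m := (p - 1) / 2 with hm
  have hd0 := hH.card_pos
  have h2p : 2 < p := by omega
  have hmp : 2 * m + 1 = p := half_spec h2p
  by_contra hr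
  push Not at hr
  let E : ℕ → (ZMod p)[X] := fun j => C ((1 + u ^ j) * ∑ x ∈ H, x ^ j) * hasseDeriv j P
  have hE : ∀ j, P.natDegree < j → E j = 0 := fun j hj => by
    simp only [E]; rw [hasseDeriv_eq_zero_of_lt_natDegree P j hj, mul_zero]
  have hEdeg : ∀ j, (E j).natDegree ≤ P.natDegree - j := fun j =>
    (natDegree_C_mul_le _ _).trans (natDegree_hasseDeriv_le P j)
  have hsum : E d + E (d + m) = 0 := by
    refine eq_of_eval_eq ?_ (by rw [natDegree_zero]; exact hp.out.pos) fun a => ?_
    · refine (natDegree_add_le _ _).trans_lt (max_lt ?_ ?_) <;>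
        exact (hEdeg _).trans_lt (by omega)
    let R : (ZMod p)[X] := ∑ j ∈ Finset.range m, C ((E j).eval a + (E (j + m)).eval a) * X ^ j
      + C ((E (2 * m)).eval a - (2 * d : ℕ) * P.eval a)
    have hR : R = 0 := by
      refine eq_zero_of_natDegree_lt_card_of_eval_eq_zero' R (sq p) (fun s hs => ?_) ?_
      · have hsm : s ^ m = 1 := mem_sq.1 hs
        have h1 := h a s hs
        rw [taylor_sum H (fun x => s * x) P a, taylor_sum H (fun x => s * u * x) P a,
          ← Finset.sum_add_distrib] at h1
        have h3 : ∑ j ∈ Finset.range p, (E j).eval a * s ^ j = ((2 * d : ℕ) : ZMod p) * P.eval a := by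
          rw [← h1, ← Finset.sum_subset (Finset.range_subset_range.2 (show P.natDegree + 1 ≤ p by omega))]
          · refine Finset.sum_congr rfl fun j _ => ?_
            simp only [E, eval_mul, eval_C, mul_pow, ← Finset.mul_sum]
            ring
          · intro j _ hj
            rw [hE j (by simpa using hj), eval_zero, zero_mul]
        have h4 : ∑ j ∈ Finset.range p, (E j).eval a * s ^ j =
            ∑ j ∈ Finset.range m, (E j).eval a * s ^ j
              + ∑ j ∈ Finset.range m, (E (j + m)).eval a * s ^ j + (E (2 * m)).eval a := by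
          have hsp : Finset.range p = Finset.range (m + m + 1) := by congr 1; omega
          rw [hsp, Finset.sum_range_succ, Finset.sum_range_add]
          simp only [pow_add, hsm, mul_one, two_mul, add_comm m]
        simp only [R, eval_add, eval_finsetSum, eval_mul, eval_C, eval_pow, eval_X, add_mul,
          Finset.sum_add_distrib]
        linear_combination h4.symm.trans h3
      · rw [card_sq h2p]
        refine (natDegree_add_le _ _).trans_lt (max_lt ?_ (by rw [natDegree_C]; omega))
        refine (natDegree_sum_le_of_forall_le _ _ fun j hj => ?_).trans_lt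
          (show m - 1 < m by omega)
        exact (natDegree_C_mul_X_pow_le _ _).trans (by have := Finset.mem_range.1 hj; omega)
    have h5 := congrArg (fun Q : (ZMod p)[X] => Q.coeff d) hR
    simp only [R, coeff_add, finsetSum_coeff, coeff_C_mul_X_pow, coeff_C, coeff_zero] at h5
    rw [if_neg (by omega), add_zero, Finset.sum_ite_eq, if_pos (Finset.mem_range.2 hd)] at h5
    rw [eval_add, eval_zero]
    exact h5
  have h6 := congrArg (fun Q : (ZMod p)[X] => Q.coeff (P.natDegree - d)) hsum
  simp only [coeff_add, coeff_zero] at h6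
  have h7 : (E (d + m)).coeff (P.natDegree - d) = 0 := by
    rcases le_or_gt (d + m) P.natDegree with h | h
    · exact coeff_eq_zero_of_natDegree_lt ((hEdeg _).trans_lt (by omega))
    · rw [hE _ h, coeff_zero]
  rw [h7, add_zero] at h6
  simp only [E, coeff_C_mul, coeff_hasseDeriv_top P hr, hH.sum_pow, ← hdc, dvd_refl, if_true] at h6
  simp only [mul_eq_zero] at h6
  rcases h6 with (h6 | h6) | (h6 | h6)
  · exact hu (by linear_combination h6)
  · exact natCast_ne_zero hd0 (by omega) h6
  · exact choose_ne_zero hP hr h6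
  · rw [leadingCoeff_eq_zero] at h6
    rw [h6, natDegree_zero] at hr
    omega

/-- If all powers `σ^i`, `i < d`, have degree `< d`, with `2 d ≤ p`, then `σ` is affine. -/
theorem affine_of_powers {d : ℕ} (hd : 2 ≤ d) (hdp : 2 * d ≤ p) (σ : ZMod p → ZMod p)
    (h : ∀ i, i < d → (interp fun x => σ x ^ i).natDegree < d) :
    ∃ a b : ZMod p, ∀ x, σ x = a * x + b := by
  set P := interp σ with hPdef
  have hr : P.natDegree < d := by simpa using h 1 (by omega)
  have hle : P.natDegree ≤ 1 := by
    by_contra hlt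
    set r := P.natDegree with hr'
    let i := (d - 1) / r + 1
    have h1 : d ≤ r * i := by
      have := Nat.lt_mul_div_succ (d - 1) (show 0 < r by omega)
      simp only [i]
      omega
    have h2 : r * i ≤ d - 1 + r := by
      have := Nat.div_mul_le_self (d - 1) r
      simp only [i, mul_add, mul_one]
      rw [mul_comm]
      omega
    have h3 : i < d := by
      have := Nat.div_le_div_left (show 2 ≤ r by omega) (show 0 < 2 by omega) (a := d - 1)
      simp only [i]
      omega
    have heq : P ^ i = interp fun x => σ x ^ i := by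
      refine eq_of_eval_eq ?_ (natDegree_interp _) fun x => ?_
      · rw [natDegree_pow, ← hr', mul_comm]
        omega
      · simp [eval_interp, hPdef]
    have := h i h3
    rw [← heq, natDegree_pow, ← hr', mul_comm] at this
    omega
  obtain ⟨a, b, hab⟩ := exists_eq_X_add_C_of_natDegree_le_one hle
  refine ⟨a, b, fun x => ?_⟩
  have := congrArg (fun Q : (ZMod p)[X] => Q.eval x) hab
  simpa [hPdef, eval_interp] using this

theorem sum_pow_eq_of_differences {ι : Type*} (s : Finset ι) (v : ι → ZMod p) (b : ZMod p) (i : ℕ)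
    (h : ∀ k, 0 < k → k ≤ i → ∑ x ∈ s, (v x - b) ^ k = 0) :
    ∑ x ∈ s, v x ^ i = s.card * b ^ i := by
  have h1 : ∀ x, v x ^ i = ∑ k ∈ Finset.range (i + 1), (v x - b) ^ k * (b ^ (i - k) * i.choose k) :=
    fun x => by
      conv_lhs => rw [← sub_add_cancel (v x) b, add_pow]
      exact Finset.sum_congr rfl fun k _ => by ring
  simp only [h1]
  rw [Finset.sum_comm]
  simp only [← Finset.sum_mul]
  rw [Finset.sum_eq_single 0]
  · simp [mul_comm]
  · intro k hk hk0
    rw [h k (Nat.pos_of_ne_zero hk0) (Nat.lt_succ_iff.1 (Finset.mem_range.1 hk)), zero_mul]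
  · intro h0
    exact absurd (Finset.mem_range.2 (Nat.succ_pos i)) h0

end Cfsg.Agent.PrimeDegreeBlocks
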